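import Groth.Agent.UnipConil.Comodules
import Mathlib.RingTheory.HopfAlgebra.Convolution
import Mathlib.RingTheory.Bialgebra.Convolution
import Mathlib.LinearAlgebra.Eigenspace.Basic
import Mathlib.Algebra.MvPolynomial.PDeriv

/-!
# Conilpotent Hopf algebras in characteristic zero are polynomial on their primitive elements

Doubling multiplies a product of `d` primitive elements by `2 ^ d`; this is used in place of a logarithm.
-/

set_option autoImplicit false
set_option linter.style.haveILetI false
set_option linter.unusedSectionVars false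

universe u v

open TensorProduct Coalgebra WithConv
open Groth.Agent.Comod
open scoped Groth.Agent.Comod

noncomputable section

namespace Groth.Agent.UnipZero

variable (k : Type u) [Field k] (A : Type v) [CommRing A] [Bialgebra k A]

/-- The primitive elements. -/
def prim : Submodule k A :=
  LinearMap.ker ((comul (R := k) (A := A)) - ((TensorProduct.mk k A A).flip 1 + TensorProduct.mk k A A 1))

variable {k A}

theorem mem_prim {a : A} : a ∈ prim k A ↔ comul (R := k) a = a ⊗ₜ[k] (1 : A) + (1 : A) ⊗ₜ[k] a := by
  simp [prim, sub_eq_zero]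

theorem counit_prim {a : A} (ha : a ∈ prim k A) : counit (R := k) a = 0 := by
  have h := Coalgebra.rTensor_counit_comul (R := k) a
  rw [mem_prim.1 ha, map_add, LinearMap.rTensor_tmul, LinearMap.rTensor_tmul, Bialgebra.counit_one] at h
  have h' := congrArg (TensorProduct.lid k A) h
  simp only [map_add, TensorProduct.lid_tmul, one_smul, add_eq_right] at h'
  have h'' := congrArg (counit (R := k)) h'
  simpa using h''

variable (k A) in
/-- Doubling. -/
def dbl : A →ₐ[k] A := (Algebra.TensorProduct.lmul' k).comp (Bialgebra.comulAlgHom k A)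

theorem dbl_apply (a : A) : dbl k A a = Algebra.TensorProduct.lmul' k (comul (R := k) a) := rfl

theorem dbl_prim {a : A} (ha : a ∈ prim k A) : dbl k A a = (2 : k) • a := by
  rw [dbl_apply, mem_prim.1 ha, map_add, Algebra.TensorProduct.lmul'_apply_tmul,
    Algebra.TensorProduct.lmul'_apply_tmul, mul_one, one_mul, two_smul]

theorem counit_dbl (a : A) : counit (R := k) (dbl k A a) = counit (R := k) a := by
  rw [dbl_apply]
  have key : ∀ t : A ⊗[k] A, counit (R := k) (Algebra.TensorProduct.lmul' k t) =
      counit (R := k) (TensorProduct.lid k A ((counit (R := k) (A := A)).rTensor A t)) := fun t => by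
    induction t using TensorProduct.induction_on with
    | zero => simp
    | tmul x y => simp
    | add x y hx hy => simp only [map_add, hx, hy]
  rw [key, Coalgebra.rTensor_counit_comul, TensorProduct.lid_tmul, one_smul]

theorem comul_dbl [IsCocomm k A] (a : A) :
    comul (R := k) (dbl k A a) = TensorProduct.map (dbl k A).toLinearMap (dbl k A).toLinearMap (comul a) := by
  let F : A →ₐc[k] A := ((toConv (BialgHom.id k A)) ^ 2).ofConv
  have hF : ∀ b, F b = dbl k A b := fun b => by
    have h := BialgHom.toAlgHom_convPow (toConv (BialgHom.id k A)) 2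
    refine (congrArg (fun t : WithConv (A →ₐ[k] A) => t.ofConv b) h).trans ?_
    show ((toConv (AlgHom.id k A)) ^ 2) b = _
    rw [pow_two, AlgHom.convMul_apply, dbl_apply]
    congr 1
  have h : comul (R := k) (F a) = TensorProduct.map (F : A →ₗ[k] A) (F : A →ₗ[k] A) (comul a) :=
    (CoalgHomClass.map_comp_comul_apply F a).symm
  rw [hF] at h
  rw [h]
  congr 2 <;> exact LinearMap.ext hF

variable (k A) in
/-- Products of at least two primitive elements, as eigenvectors of doubling. -/
def evs : Set A := {v | ∃ d : ℕ, 2 ≤ d ∧ dbl k A v = (2 : k) ^ d • v}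

theorem monomial_cases {v : A} (hv : v ∈ Submonoid.closure (prim k A : Set A)) :
    v = 1 ∨ v ∈ prim k A ∨ v ∈ evs k A := by
  induction hv using Submonoid.closure_induction with
  | mem x hx => exact Or.inr (Or.inl hx)
  | one => exact Or.inl rfl
  | mul x y _ _ hx hy =>
    have hd : ∀ z : A, z ∈ prim k A ∨ z ∈ evs k A → ∃ d : ℕ, 1 ≤ d ∧ dbl k A z = (2 : k) ^ d • z := by
      rintro z (hz | ⟨d, hd, he⟩)
      · exact ⟨1, le_rfl, by rw [dbl_prim hz, pow_one]⟩
      · exact ⟨d, by omega, he⟩
    rcases hx with rfl | hx
    · rw [one_mul]; exact hy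
    rcases hy with rfl | hy
    · rw [mul_one]; exact Or.inr hx
    obtain ⟨d, hd1, he⟩ := hd x hx
    obtain ⟨d', hd1', he'⟩ := hd y hy
    refine Or.inr (Or.inr ⟨d + d', by omega, ?_⟩)
    rw [map_mul, he, he', smul_mul_smul_comm, pow_add]

theorem two_pow_injective [CharZero k] : Function.Injective fun d : ℕ => (2 : k) ^ d := fun a b h => by
  have h' : ((2 ^ a : ℕ) : k) = ((2 ^ b : ℕ) : k) := by push_cast; exact h
  exact Nat.pow_right_injective le_rfl (Nat.cast_injective h')

theorem two_pow_ne_two [CharZero k] {d : ℕ} (hd : 2 ≤ d) : (2 : k) ^ d ≠ 2 := fun h => by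
  have := two_pow_injective (k := k) (h.trans (pow_one (2 : k)).symm)
  omega

theorem counit_evs [CharZero k] {v : A} (hv : v ∈ evs k A) : counit (R := k) v = 0 := by
  obtain ⟨d, hd, he⟩ := hv
  have h := counit_dbl (k := k) v
  rw [he, map_smul, smul_eq_mul] at h
  by_contra h0
  have h1 : (2 : k) ^ d = 1 := mul_right_cancel₀ h0 (by rw [h, one_mul])
  have := two_pow_injective (k := k) (h1.trans (pow_zero (2 : k)).symm)
  omega

/-- An eigenvector in the span of eigenvectors with other eigenvalues vanishes. -/
theorem eq_zero_of_eigen {V : Type*} [AddCommGroup V] [Module k V] (T : Module.End k V) {E : Set k} {c : k}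
    (hc : c ∉ E) {x : V} (hx : x ∈ ⨆ e ∈ E, T.eigenspace e) (hT : T x = c • x) : x = 0 :=
  Submodule.disjoint_def.1 ((Module.End.eigenspaces_iSupIndep T).disjoint_biSup hc) x
    (Module.End.mem_eigenspace_iff.2 hT) hx

variable [CharZero k] [IsCocomm k A]

/-- The algebra generated by the primitive elements is everything. -/
theorem adjoin_prim_eq_top (hA : UnipConil.IsConil k A) : Algebra.adjoin k (prim k A : Set A) = ⊤ := by
  set D := Algebra.adjoin k (prim k A : Set A) with hD
  let Dp : Submodule k A := prim k A ⊔ Submodule.span k (evs k A ∩ D)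
  have hsplit : ∀ b ∈ D, ∃ c : k, ∃ r ∈ Dp, b = c • (1 : A) + r := by
    intro b hb
    rw [← Subalgebra.mem_toSubmodule, hD, Algebra.adjoin_eq_span] at hb
    induction hb using Submodule.span_induction with
    | mem v hv =>
      have hvD : v ∈ D := Submonoid.closure_le (S := D.toSubmonoid).2 Algebra.subset_adjoin hv
      rcases monomial_cases hv with rfl | h | h
      · exact ⟨1, 0, zero_mem _, by simp⟩
      · exact ⟨0, v, Submodule.mem_sup_left h, by simp⟩
      · exact ⟨0, v, Submodule.mem_sup_right (Submodule.subset_span ⟨h, hvD⟩), by simp⟩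
    | zero => exact ⟨0, 0, zero_mem _, by simp⟩
    | add x y _ _ hx hy =>
      obtain ⟨c, r, hr, rfl⟩ := hx
      obtain ⟨c', r', hr', rfl⟩ := hy
      exact ⟨c + c', r + r', add_mem hr hr', by rw [add_smul]; abel⟩
    | smul a x _ hx =>
      obtain ⟨c, r, hr, rfl⟩ := hx
      exact ⟨a * c, a • r, Submodule.smul_mem _ a hr, by rw [smul_add, smul_smul]⟩
  have hDp0 : ∀ r ∈ Dp, counit (R := k) r = 0 := by
    intro r hr
    have h : Dp ≤ LinearMap.ker (counit (R := k) (A := A)) :=
      sup_le (fun x hx => counit_prim hx) (Submodule.span_le.2 fun x hx => counit_evs hx.1)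
    exact h hr
  have hcl : ∀ (n : ℕ) (a : A), a ∈ UnipConil.filt k A n → a ∈ D := by
    intro n
    induction n with
    | zero =>
      intro a ha
      obtain ⟨c, rfl⟩ := Submodule.mem_span_singleton.mp ha
      exact Subalgebra.smul_mem _ (one_mem _) c
    | succ n ih =>
      intro a₀ ha₀
      let a := a₀ - counit (R := k) a₀ • (1 : A)
      have ha : a ∈ UnipConil.filt k A (n + 1) :=
        sub_mem ha₀ (Submodule.smul_mem _ _ (UnipConil.one_mem_filt (n + 1)))
      have hε : counit (R := k) a = 0 := by simp [a]
      suffices a ∈ D by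
        rw [show a₀ = a + counit (R := k) a₀ • (1 : A) from (sub_add_cancel _ _).symm]
        exact add_mem this (Subalgebra.smul_mem _ (one_mem _) _)
      let DD := LinearMap.range (TensorProduct.map D.toSubmodule.subtype D.toSubmodule.subtype)
      have hmem : comul (R := k) a - a ⊗ₜ[k] 1 - 1 ⊗ₜ[k] a ∈ DD := by
        refine (mem_range_map_iff _ _ _).mpr ⟨fun f => ?_, fun f => ?_⟩
        · have hf : (f - f 1 • counit (R := k) (A := A)) 1 = 0 := by simp
          have h := UnipConil.cR_mem ha hf
          have e : ∀ t : A ⊗[k] A, cR (f - f 1 • counit (R := k) (A := A)) t =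
              cR f t - f 1 • cR (counit (R := k) (A := A)) t := fun t => by
            induction t using TensorProduct.induction_on with
            | zero => simp
            | tmul x y => simp [sub_smul, smul_smul]
            | add x y hx hy => simp only [map_add, hx, hy, smul_add]; abel
          have hc : cR (counit (R := k) (A := A)) (comul (R := k) a) = a := by
            show TensorProduct.rid k A ((counit (R := k) (A := A)).lTensor A (comul (R := k) a)) = a
            simp
          rw [e, hc] at h
          rw [map_sub, map_sub, cR_tmul, cR_tmul]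
          exact ih _ (sub_mem h (Submodule.smul_mem _ _ (UnipConil.one_mem_filt n)))
        · have hf : (f - f 1 • counit (R := k) (A := A)) 1 = 0 := by simp
          have h := UnipConil.cL_mem ha hf
          have e : ∀ t : A ⊗[k] A, cL (f - f 1 • counit (R := k) (A := A)) t =
              cL f t - f 1 • cL (counit (R := k) (A := A)) t := fun t => by
            induction t using TensorProduct.induction_on with
            | zero => simp
            | tmul x y => simp [sub_smul, smul_smul]
            | add x y hx hy => simp only [map_add, hx, hy, smul_add]; abel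
          have hc : cL (counit (R := k) (A := A)) (comul (R := k) a) = a := by
            show TensorProduct.lid k A ((counit (R := k) (A := A)).rTensor A (comul (R := k) a)) = a
            simp
          rw [e, hc] at h
          rw [map_sub, map_sub, cL_tmul, cL_tmul, sub_right_comm]
          exact ih _ (sub_mem h (Submodule.smul_mem _ _ (UnipConil.one_mem_filt n)))
      -- the defect of doubling
      have hb : dbl k A a - (2 : k) • a ∈ D := by
        have h : Algebra.TensorProduct.lmul' k (comul (R := k) a - a ⊗ₜ[k] 1 - 1 ⊗ₜ[k] a) ∈ D := by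
          obtain ⟨t, ht⟩ := hmem
          rw [← ht]
          clear ht
          induction t using TensorProduct.induction_on with
          | zero => simp
          | tmul x y => simpa using D.mul_mem x.2 y.2
          | add x y hx hy => rw [map_add, map_add]; exact add_mem hx hy
        rw [map_sub, map_sub, Algebra.TensorProduct.lmul'_apply_tmul, Algebra.TensorProduct.lmul'_apply_tmul,
          mul_one, one_mul, ← dbl_apply, sub_sub, ← two_smul k a] at h
        exact h
      obtain ⟨c, r, hr, hcr⟩ := hsplit _ hb
      have hc0 : c = 0 := by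
        have h := congrArg (counit (R := k)) hcr
        simpa [counit_dbl, hε, hDp0 r hr] using h.symm
      rw [hc0, zero_smul, zero_add] at hcr
      obtain ⟨q, hq, r₂, hr₂, rfl⟩ := Submodule.mem_sup.1 hr
      have hr₂' : ∀ w ∈ Submodule.span k (evs k A ∩ D), ∃ c₂ ∈ Submodule.span k (evs k A ∩ D),
          dbl k A c₂ - (2 : k) • c₂ = w := by
        intro w hw
        induction hw using Submodule.span_induction with
        | mem v hv =>
          obtain ⟨d, hd, he⟩ := hv.1
          have hne : (2 : k) ^ d - 2 ≠ 0 := sub_ne_zero.2 (two_pow_ne_two hd)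
          refine ⟨((2 : k) ^ d - 2)⁻¹ • v, Submodule.smul_mem _ _ (Submodule.subset_span hv), ?_⟩
          rw [map_smul, he, smul_smul, smul_smul, ← sub_smul, mul_comm (2 : k), ← mul_sub, inv_mul_cancel₀ hne,
            one_smul]
        | zero => exact ⟨0, zero_mem _, by simp⟩
        | add x y _ _ hx hy =>
          obtain ⟨c, hc, rfl⟩ := hx
          obtain ⟨c', hc', rfl⟩ := hy
          exact ⟨c + c', add_mem hc hc', by rw [map_add, smul_add]; abel⟩
        | smul s x _ hx =>
          obtain ⟨c, hc, rfl⟩ := hx
          exact ⟨s • c, Submodule.smul_mem _ s hc, by rw [map_smul, smul_sub, smul_comm]⟩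
      obtain ⟨c₂, hc₂, hc₂e⟩ := hr₂' r₂ hr₂
      have hc₂D : c₂ ∈ D := by
        have : Submodule.span k (evs k A ∩ D) ≤ D.toSubmodule := Submodule.span_le.2 Set.inter_subset_right
        exact this hc₂
      let a' := a - c₂
      have ha'ε : counit (R := k) a' = 0 := by
        show counit (R := k) (a - c₂) = 0
        rw [map_sub, hε, hDp0 c₂ (Submodule.mem_sup_right hc₂), sub_zero]
      have ha' : dbl k A a' - (2 : k) • a' = q := by
        show dbl k A (a - c₂) - (2 : k) • (a - c₂) = q
        rw [map_sub, smul_sub, sub_sub_sub_comm, hcr, hc₂e, add_sub_cancel_right]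
      suffices a' ∈ prim k A by
        rw [show a = a' + c₂ from (sub_add_cancel _ _).symm]
        exact add_mem (Algebra.subset_adjoin this) hc₂D
      -- the defect of primitivity is an eigenvector with eigenvalue two
      let σ₂ : Module.End k (A ⊗[k] A) := TensorProduct.map (dbl k A).toLinearMap (dbl k A).toLinearMap
      let δ : A → A ⊗[k] A := fun x => comul (R := k) x - x ⊗ₜ[k] 1 - 1 ⊗ₜ[k] x
      have hσδ : ∀ x, σ₂ (δ x) = δ (dbl k A x) := fun x => by
        simp [δ, σ₂, comul_dbl, map_one]
      have hT : σ₂ (δ a') = (2 : k) • δ a' := by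
        rw [hσδ, show dbl k A a' = (2 : k) • a' + q by rw [← ha', add_sub_cancel]]
        simp only [δ, map_add, map_smul, TensorProduct.add_tmul, TensorProduct.tmul_add, TensorProduct.smul_tmul',
          TensorProduct.tmul_smul, smul_sub, mem_prim.1 hq]
        abel
      have hδD : δ a' ∈ DD := by
        have h2 : δ c₂ ∈ DD := by
          have hcD : ∀ x ∈ D, comul (R := k) x ∈ DD := by
            intro x hx
            have hDD : ∀ s ∈ DD, ∀ t ∈ DD, s * t ∈ DD := by
              rintro _ ⟨s, rfl⟩ _ ⟨t, rfl⟩
              induction s using TensorProduct.induction_on with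
              | zero => simp
              | tmul x y =>
                induction t using TensorProduct.induction_on with
                | zero => simp
                | tmul x' y' => exact ⟨⟨_, D.mul_mem x.2 x'.2⟩ ⊗ₜ ⟨_, D.mul_mem y.2 y'.2⟩, by simp⟩
                | add t t' h h' => rw [map_add, mul_add]; exact add_mem h h'
              | add s s' h h' => rw [map_add, add_mul]; exact add_mem h h'
            induction hx using Algebra.adjoin_induction with
            | mem p hp =>
              rw [mem_prim.1 hp]
              exact add_mem ⟨⟨p, Algebra.subset_adjoin hp⟩ ⊗ₜ ⟨1, D.one_mem⟩, rfl⟩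
                ⟨⟨1, D.one_mem⟩ ⊗ₜ ⟨p, Algebra.subset_adjoin hp⟩, rfl⟩
            | algebraMap r =>
              rw [Bialgebra.comul_algebraMap, Algebra.TensorProduct.algebraMap_apply]
              exact ⟨⟨_, D.algebraMap_mem r⟩ ⊗ₜ ⟨1, D.one_mem⟩, rfl⟩
            | add x y _ _ hx hy => rw [map_add]; exact add_mem hx hy
            | mul x y _ _ hx hy => rw [Bialgebra.comul_mul]; exact hDD _ hx _ hy
          exact sub_mem (sub_mem (hcD _ hc₂D) ⟨⟨c₂, hc₂D⟩ ⊗ₜ ⟨1, D.one_mem⟩, rfl⟩)
            ⟨⟨1, D.one_mem⟩ ⊗ₜ ⟨c₂, hc₂D⟩, rfl⟩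
        have : δ a' = δ a - δ c₂ := by
          simp only [δ, a', map_sub, TensorProduct.sub_tmul, TensorProduct.tmul_sub]
          abel
        rw [this]
        exact sub_mem hmem h2
      -- remove the counit parts
      let π : A →ₗ[k] A := LinearMap.id - (Algebra.linearMap k A).comp (counit (R := k))
      have hππ : TensorProduct.map π π (δ a') = δ a' := by
        have key : ∀ t : A ⊗[k] A, TensorProduct.map π π t = t -
            (TensorProduct.mk k A A).flip 1 (TensorProduct.rid k A ((counit (R := k) (A := A)).lTensor A t)) -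
            TensorProduct.mk k A A 1 (TensorProduct.lid k A ((counit (R := k) (A := A)).rTensor A t)) +
            counit (R := k) (TensorProduct.lid k A ((counit (R := k) (A := A)).rTensor A t)) • ((1 : A) ⊗ₜ[k] (1 : A)) := fun t => by
          induction t using TensorProduct.induction_on with
          | zero => simp
          | tmul x y =>
            simp [π, TensorProduct.sub_tmul, TensorProduct.tmul_sub, Algebra.algebraMap_eq_smul_one,
              ← TensorProduct.smul_tmul', TensorProduct.tmul_smul]
            module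
          | add x y hx hy => simp only [map_add, hx, hy, add_smul]; abel
        rw [key]
        simp [δ, ha'ε, Coalgebra.rTensor_counit_comul, Coalgebra.lTensor_counit_comul]
      have hπD : ∀ x ∈ D, π x ∈ Dp := by
        intro x hx
        obtain ⟨c, r, hr, rfl⟩ := hsplit x hx
        convert hr using 1
        simp [π, hDp0 r hr, Algebra.algebraMap_eq_smul_one]
      have hEig : ∀ r ∈ Dp, ∀ s ∈ Dp, r ⊗ₜ[k] s ∈ ⨆ e ∈ {e : k | ∃ m : ℕ, 2 ≤ m ∧ e = 2 ^ m}, σ₂.eigenspace e := by
        have hgen : Dp = Submodule.span k ((prim k A : Set A) ∪ (evs k A ∩ D)) := by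
          rw [Submodule.span_union, Submodule.span_eq]
        intro r hr s hs
        rw [hgen] at hr hs
        induction hr using Submodule.span_induction with
        | mem r hr =>
          induction hs using Submodule.span_induction with
          | mem s hs =>
            have hd : ∀ z ∈ (prim k A : Set A) ∪ (evs k A ∩ D), ∃ d : ℕ, 1 ≤ d ∧ dbl k A z = (2 : k) ^ d • z := by
              rintro z (hz | ⟨⟨d, hd, he⟩, -⟩)
              · exact ⟨1, le_rfl, by rw [dbl_prim hz, pow_one]⟩
              · exact ⟨d, by omega, he⟩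
            obtain ⟨d, hd1, he⟩ := hd r hr
            obtain ⟨d', hd1', he'⟩ := hd s hs
            refine Submodule.mem_iSup_of_mem _ (Submodule.mem_iSup_of_mem ⟨d + d', by omega, rfl⟩ ?_)
            rw [Module.End.mem_eigenspace_iff]
            simp only [σ₂, TensorProduct.map_tmul, AlgHom.toLinearMap_apply, he, he', TensorProduct.smul_tmul',
              TensorProduct.tmul_smul, smul_smul, pow_add]
            rw [mul_comm]
          | zero => simp
          | add x y _ _ hx hy => rw [TensorProduct.tmul_add]; exact add_mem hx hy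
          | smul c x _ hx => rw [TensorProduct.tmul_smul]; exact Submodule.smul_mem _ c hx
        | zero => simp
        | add x y _ _ hx hy => rw [TensorProduct.add_tmul]; exact add_mem hx hy
        | smul c x _ hx => rw [← TensorProduct.smul_tmul']; exact Submodule.smul_mem _ c hx
      have h0 : δ a' = 0 := by
        refine eq_zero_of_eigen σ₂ (E := {e : k | ∃ m : ℕ, 2 ≤ m ∧ e = 2 ^ m}) ?_ ?_ hT
        · rintro ⟨m, hm, he⟩
          exact two_pow_ne_two hm he.symm
        · obtain ⟨t, ht⟩ := hδD
          rw [← hππ, ← ht]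
          clear ht
          induction t using TensorProduct.induction_on with
          | zero => simp
          | tmul x y => rw [TensorProduct.map_tmul, TensorProduct.map_tmul]; exact hEig _ (hπD _ x.2) _ (hπD _ y.2)
          | add x y hx hy => rw [map_add, map_add]; exact add_mem hx hy
      exact mem_prim.2 (sub_eq_zero.1 ((sub_sub _ _ _).symm.trans h0))
  refine top_le_iff.1 fun a _ => ?_
  obtain ⟨n, hn⟩ := hA a
  exact hcl n a hn

variable {σ : Type*} [Fintype σ] [DecidableEq σ]

/-- Linearly independent primitive elements are algebraically independent. -/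
theorem algebraicIndependent_of_prim {x : σ → A} (hx : ∀ i, x i ∈ prim k A) (hli : LinearIndependent k x) :
    AlgebraicIndependent k x := by
  classical
  let φ : MvPolynomial σ k →ₐ[k] A := MvPolynomial.aeval x
  let T : Module.End k (A ⊗[k] A) := TensorProduct.map LinearMap.id (dbl k A).toLinearMap
  let J : Submodule k (A ⊗[k] A) :=
    Submodule.span k (Set.image2 (fun a v => a ⊗ₜ[k] v) Set.univ (evs k A))
  have hevs : ∀ v ∈ evs k A, ∀ i, v * x i ∈ evs k A := fun v ⟨d, hd, he⟩ i =>
    ⟨d + 1, by omega, by rw [map_mul, he, dbl_prim (hx i), smul_mul_smul_comm, pow_succ]⟩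
  have hJl : ∀ j ∈ J, ∀ i, j * (x i ⊗ₜ[k] (1 : A)) ∈ J ∧ j * ((1 : A) ⊗ₜ[k] x i) ∈ J := by
    intro j hj i
    induction hj using Submodule.span_induction with
    | mem j hj =>
      obtain ⟨a, -, v, hv, rfl⟩ := hj
      refine ⟨?_, ?_⟩ <;> rw [Algebra.TensorProduct.tmul_mul_tmul]
      · exact Submodule.subset_span ⟨a * x i, trivial, v, hv, by simp⟩
      · exact Submodule.subset_span ⟨a, trivial, v * x i, hevs v hv i, by simp⟩
    | zero => simp
    | add a b _ _ ha hb => simp only [add_mul]; exact ⟨add_mem ha.1 hb.1, add_mem ha.2 hb.2⟩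
    | smul c a _ ha => simp only [smul_mul_assoc]; exact ⟨J.smul_mem c ha.1, J.smul_mem c ha.2⟩
  have htaylor : ∀ f : MvPolynomial σ k, comul (R := k) (φ f) - φ f ⊗ₜ[k] (1 : A) -
      ∑ i, φ (MvPolynomial.pderiv i f) ⊗ₜ[k] x i ∈ J := by
    intro f
    induction f using MvPolynomial.induction_on with
    | C c =>
      simp [φ, Bialgebra.comul_algebraMap, Algebra.TensorProduct.algebraMap_apply]
    | add f g hf hg =>
      convert add_mem hf hg using 1
      simp only [map_add, TensorProduct.add_tmul, Finset.sum_add_distrib]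
      abel
    | mul_X f j hf =>
      have h1 := (hJl _ hf j)
      have hsum : ∀ i, φ (MvPolynomial.pderiv i (f * MvPolynomial.X j)) ⊗ₜ[k] x i =
          (φ (MvPolynomial.pderiv i f) ⊗ₜ[k] x i) * (x j ⊗ₜ[k] (1 : A)) +
            (if i = j then φ f ⊗ₜ[k] x j else 0) := by
        intro i
        rw [MvPolynomial.pderiv_mul, MvPolynomial.pderiv_X, map_add, TensorProduct.add_tmul, map_mul, map_mul,
          Algebra.TensorProduct.tmul_mul_tmul, mul_one, Pi.single_apply]
        simp only [φ, MvPolynomial.aeval_X]
        congr 1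
        rcases eq_or_ne i j with rfl | hne
        · simp
        · simp [hne, Ne.symm hne]
      have hq : ∀ i, (φ (MvPolynomial.pderiv i f) ⊗ₜ[k] x i) * ((1 : A) ⊗ₜ[k] x j) ∈ J := fun i => by
        rw [Algebra.TensorProduct.tmul_mul_tmul, mul_one]
        refine Submodule.subset_span ⟨_, trivial, x i * x j, ⟨2, le_rfl, ?_⟩, rfl⟩
        rw [map_mul, dbl_prim (hx i), dbl_prim (hx j), smul_mul_smul_comm, pow_two]
      rw [Finset.sum_congr rfl fun i _ => hsum i, Finset.sum_add_distrib, Finset.sum_ite_eq' Finset.univ j,
        if_pos (Finset.mem_univ j), map_mul, Bialgebra.comul_mul, ← Finset.sum_mul]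
      have hxj : comul (R := k) (φ (MvPolynomial.X j)) = x j ⊗ₜ[k] (1 : A) + (1 : A) ⊗ₜ[k] x j := by
        simp only [φ, MvPolynomial.aeval_X]; exact mem_prim.1 (hx j)
      rw [hxj]
      convert add_mem (add_mem h1.1 h1.2) (Submodule.sum_mem J (t := Finset.univ) fun i _ => hq i) using 1
      simp only [φ, MvPolynomial.aeval_X, Finset.sum_mul, mul_add, sub_mul, Algebra.TensorProduct.tmul_mul_tmul,
        mul_one, one_mul]
      abel
  have hJeig : J ≤ ⨆ e ∈ {e : k | ∃ m : ℕ, 2 ≤ m ∧ e = 2 ^ m}, T.eigenspace e := by
    refine Submodule.span_le.2 ?_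
    rintro _ ⟨a, -, v, ⟨d, hd, he⟩, rfl⟩
    refine Submodule.mem_iSup_of_mem _ (Submodule.mem_iSup_of_mem ⟨d, hd, rfl⟩ ?_)
    rw [Module.End.mem_eigenspace_iff]
    simp only [T, TensorProduct.map_tmul, LinearMap.id_apply, AlgHom.toLinearMap_apply, he, TensorProduct.tmul_smul]
  rw [algebraicIndependent_iff]
  suffices ∀ n, ∀ f : MvPolynomial σ k, f.totalDegree < n → φ f = 0 → f = 0 from
    fun f hf => this (f.totalDegree + 1) f (Nat.lt_succ_self _) hf
  intro n
  induction n with
  | zero => exact fun f hf => absurd hf (Nat.not_lt_zero _)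
  | succ n ih =>
    intro f hdeg hf
    have hsum : ∑ i, φ (MvPolynomial.pderiv i f) ⊗ₜ[k] x i = 0 := by
      have h := htaylor f
      rw [hf, map_zero, TensorProduct.zero_tmul, sub_zero, zero_sub, neg_mem_iff] at h
      refine eq_zero_of_eigen T (E := {e : k | ∃ m : ℕ, 2 ≤ m ∧ e = 2 ^ m}) (c := 2) ?_ (hJeig h) ?_
      · rintro ⟨m, hm, he⟩
        exact two_pow_ne_two hm he.symm
      · simp only [T, map_sum, TensorProduct.map_tmul, LinearMap.id_apply, AlgHom.toLinearMap_apply,
          dbl_prim (hx _), TensorProduct.tmul_smul, Finset.smul_sum]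
    have hzero : ∀ i, φ (MvPolynomial.pderiv i f) = 0 := by
      intro i
      obtain ⟨ℓ, hℓ⟩ := LinearMap.exists_leftInverse_of_injective (Finsupp.linearCombination k x)
        (LinearMap.ker_eq_bot.2 hli)
      have hℓx : ∀ j, ℓ (x j) i = if j = i then 1 else 0 := fun j => by
        have h := congrArg (fun g : (σ →₀ k) →ₗ[k] (σ →₀ k) => g (Finsupp.single j 1) i) hℓ
        simpa [Finsupp.single_apply] using h
      have h := congrArg (fun t => TensorProduct.rid k A (((Finsupp.lapply i).comp ℓ).lTensor A t)) hsum
      simpa [map_sum, hℓx] using h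
    have hlt : ∀ i, (MvPolynomial.pderiv i f).totalDegree < n ∨ MvPolynomial.pderiv i f = 0 := by
      intro i
      refine or_iff_not_imp_right.2 fun hne => ?_
      obtain ⟨m, hm, hmax⟩ := (MvPolynomial.pderiv i f).support.exists_mem_eq_sup
        (MvPolynomial.support_nonempty.2 hne) fun s => s.sum fun _ e => e
      have h : m + Finsupp.single i 1 ∈ f.support := by
        rw [MvPolynomial.mem_support_iff] at hm ⊢
        rw [MvPolynomial.coeff_pderiv] at hm
        exact left_ne_zero_of_mul hm
      have h' := MvPolynomial.le_totalDegree h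
      rw [Finsupp.sum_add_index' (fun _ => rfl) (fun _ _ _ => rfl), Finsupp.sum_single_index rfl] at h'
      rw [show (MvPolynomial.pderiv i f).totalDegree = m.sum fun _ e => e from hmax]
      omega
    have hD0 : ∀ i, MvPolynomial.pderiv i f = 0 := fun i =>
      (hlt i).elim (fun h => ih _ h (hzero i)) id
    have hf0 : f.totalDegree = 0 := Nat.le_zero.1 (Finset.sup_le fun m hm => by
      by_contra hne
      obtain ⟨i, hi⟩ : ∃ i, m i ≠ 0 := by
        by_contra h
        push Not at h
        refine hne (le_of_eq ?_)
        rw [show m = 0 from Finsupp.ext h]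
        exact Finsupp.sum_zero_index
      have h := congrArg (MvPolynomial.coeff (m - Finsupp.single i 1)) (hD0 i)
      rw [MvPolynomial.coeff_pderiv, MvPolynomial.coeff_zero,
        tsub_add_cancel_of_le (Finsupp.single_le_iff.2 (Nat.one_le_iff_ne_zero.2 hi))] at h
      exact mul_ne_zero (MvPolynomial.mem_support_iff.1 hm) (Nat.cast_add_one_ne_zero _) h)
    rw [MvPolynomial.totalDegree_eq_zero_iff_eq_C] at hf0
    rw [hf0] at hf ⊢
    simp only [φ, MvPolynomial.aeval_C] at hf
    haveI : Nontrivial A := (Bialgebra.counitAlgHom k A).toRingHom.domain_nontrivial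
    rw [(algebraMap k A).injective (hf.trans (map_zero _).symm), map_zero]

/-- The structure theorem. -/
theorem exists_generators {B : Type v} [CommRing B] [Bialgebra k B] [IsCocomm k B] [Algebra.FiniteType k B]
    (hB : UnipConil.IsConil k B) :
    ∃ (n : ℕ) (x : Fin n → B), AlgebraicIndependent k x ∧ Algebra.adjoin k (Set.range x) = ⊤ ∧
      ∀ i, comul (R := k) (x i) = x i ⊗ₜ[k] (1 : B) + (1 : B) ⊗ₜ[k] x i := by
  classical
  obtain ⟨s, hs⟩ := (inferInstance : Algebra.FiniteType k B).out
  have hmem : ∀ b : B, ∃ P : Finset B, (↑P : Set B) ⊆ prim k B ∧ b ∈ Algebra.adjoin k (P : Set B) := by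
    intro b
    have hb : b ∈ Algebra.adjoin k (prim k B : Set B) := by rw [adjoin_prim_eq_top hB]; exact Algebra.mem_top
    induction hb using Algebra.adjoin_induction with
    | mem p hp => exact ⟨{p}, by simpa using hp, Algebra.subset_adjoin (by simp)⟩
    | algebraMap r => exact ⟨∅, by simp, Subalgebra.algebraMap_mem _ r⟩
    | add a b _ _ ha hb =>
      obtain ⟨P, hP, ha⟩ := ha
      obtain ⟨Q, hQ, hb⟩ := hb
      exact ⟨P ∪ Q, by simp [hP, hQ], add_mem (Algebra.adjoin_mono (by simp) ha) (Algebra.adjoin_mono (by simp) hb)⟩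
    | mul a b _ _ ha hb =>
      obtain ⟨P, hP, ha⟩ := ha
      obtain ⟨Q, hQ, hb⟩ := hb
      exact ⟨P ∪ Q, by simp [hP, hQ], mul_mem (Algebra.adjoin_mono (by simp) ha) (Algebra.adjoin_mono (by simp) hb)⟩
  choose P hP hb using hmem
  let S : Submodule k B := Submodule.span k (↑(s.biUnion P) : Set B)
  haveI : Module.Finite k S := Module.Finite.span_of_finite k (s.biUnion P).finite_toSet
  have hSprim : S ≤ prim k B := Submodule.span_le.2 fun y hy => by
    obtain ⟨a, -, ha⟩ := Finset.mem_biUnion.1 hy
    exact hP a ha
  let bas := Module.finBasis k S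
  refine ⟨_, fun i => (bas i : B), algebraicIndependent_of_prim (fun i => hSprim (bas i).2)
    (bas.linearIndependent.map' S.subtype S.ker_subtype), top_le_iff.1 ?_, fun i => mem_prim.1 (hSprim (bas i).2)⟩
  rw [← hs]
  refine Algebra.adjoin_le fun a ha => ?_
  have h1 : S ≤ (Algebra.adjoin k (Set.range fun i => (bas i : B))).toSubmodule := by
    intro y hy
    have := bas.sum_repr ⟨y, hy⟩
    rw [← show ((∑ i, bas.repr ⟨y, hy⟩ i • bas i : S) : B) = y from congrArg Subtype.val this]
    push_cast
    exact Subalgebra.sum_mem _ fun i _ => Subalgebra.smul_mem _ (Algebra.subset_adjoin (Set.mem_range_self i)) _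
  exact Algebra.adjoin_le (fun y hy => h1 (Submodule.subset_span (Finset.mem_biUnion.2 ⟨a, ha, hy⟩))) (hb a)

end Groth.Agent.UnipZero
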